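import Groth.Agent.NormCoker.Alg
import Groth.Agent.DeltaNorm.Sch
import Groth.Agent.NagataNorm.Basic
import Groth.Agent.BMCoh.NormalizationIso
import Groth.Agent.RefStalk.Eval
import Groth.Agent.GenComp.GenericOpen
import Mathlib

/-!
The cokernel of `O → ν_* O` for the normalisation of an integral scheme with finite normalisation.
-/

set_option autoImplicit false
set_option backward.isDefEq.respectTransparency false
set_option backward.isDefEq.respectTransparency.types false
set_option linter.style.haveILetI false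
set_option maxHeartbeats 1000000

universe u

open CategoryTheory CategoryTheory.Limits AlgebraicGeometry TopologicalSpace Opposite

noncomputable section

namespace Groth.Agent.NormCoker

variable (X : Scheme.{u}) [IsIntegral X]
  [QuasiCompact (X.fromSpecStalk (genericPoint X))] [QuasiSeparated (X.fromSpecStalk (genericPoint X))]

theorem isFinite_normalizationι (hN : ∀ U : X.affineOpens, CAlg.IsNagata Γ(X, (U : X.Opens))) :
    IsFinite (Curv2.normalizationι X) := by
  refine Groth.Agent.NagataNorm.isFinite_fromNormalization _ hN (fun U => ?_) fun x _ => ?_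
  · haveI : Subsingleton ↥(Spec (X.presheaf.stalk (genericPoint X))) :=
      inferInstanceAs (Subsingleton (PrimeSpectrum X.functionField))
    exact Set.subsingleton_of_subsingleton.finite
  · refine RingHom.FiniteType.essFiniteType (RingHom.FiniteType.of_surjective _ fun r => ?_)
    obtain ⟨o, rfl⟩ := Scheme.residue_surjective _ _ r
    obtain ⟨o', rfl⟩ := (X.fromSpecStalk (genericPoint X)).stalkMap_surjective x o
    exact ⟨(X.residue _).hom o', congrArg (fun φ : X.presheaf.stalk _ ⟶ _ => φ.hom o')
      (Scheme.residue_residueFieldMap (X.fromSpecStalk (genericPoint X)) x)⟩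

theorem exists_algEquiv {U : X.Opens} (hU : IsAffineOpen U) [Nonempty U] :
    letI := ((Curv2.normalizationι X).app U).hom.toAlgebra
    Nonempty (integralClosure Γ(X, U) X.functionField ≃ₐ[Γ(X, U)]
      Γ(Curv2.normalization X, Curv2.normalizationι X ⁻¹ᵁ U)) := by
  letI := ((Curv2.normalizationι X).app U).hom.toAlgebra
  let g := X.fromSpecStalk (genericPoint X)
  letI : Algebra Γ(X, U) Γ(Spec (X.presheaf.stalk (genericPoint X)), g ⁻¹ᵁ U) := (g.app U).hom.toAlgebra
  have hη : genericPoint X ∈ U :=
    ((genericPoint_spec X).mem_open_set_iff U.isOpen).mpr (by simpa using Set.nonempty_coe_sort.1 ‹Nonempty U›)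
  have hmem : g (IsLocalRing.closedPoint (X.presheaf.stalk (genericPoint X))) ∈ U := by
    show X.fromSpecStalk (genericPoint X) _ ∈ U
    rw [Scheme.fromSpecStalk_closedPoint]; exact hη
  have e1 : g.app U ≫ ((Spec (X.presheaf.stalk (genericPoint X))).presheaf.mapIso
        (eqToIso (Scheme.preimage_eq_top_of_closedPoint_mem g hmem).symm).op ≪≫
          Scheme.ΓSpecIso (X.presheaf.stalk (genericPoint X))).hom = X.germToFunctionField U := by
    rw [← Scheme.germ_stalkClosedPointTo g U hmem]
    show _ ≫ Scheme.stalkClosedPointTo (X.fromSpecStalk (genericPoint X)) = _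
    rw [Scheme.stalkClosedPointTo_fromSpecStalk, TopCat.Presheaf.stalkCongr_hom]
    exact TopCat.Presheaf.germ_stalkSpecializes _ _ _
  let ψ : Γ(Spec (X.presheaf.stalk (genericPoint X)), g ⁻¹ᵁ U) ≃ₐ[Γ(X, U)] X.functionField :=
    AlgEquiv.ofRingEquiv (f := Iso.commRingCatIsoToRingEquiv ((Spec (X.presheaf.stalk (genericPoint X))).presheaf.mapIso
        (eqToIso (Scheme.preimage_eq_top_of_closedPoint_mem g hmem).symm).op ≪≫
          Scheme.ΓSpecIso (X.presheaf.stalk (genericPoint X))))
      fun a => congrArg (fun m => m.hom a) e1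
  let E := ψ.mapIntegralClosure.toRingEquiv.symm.trans (g.normalizationObjIso hU).commRingCatIsoToRingEquiv.symm
  refine ⟨AlgEquiv.ofRingEquiv (f := E) fun a => ?_⟩
  show (g.normalizationObjIso hU).inv (ψ.mapIntegralClosure.symm (algebraMap Γ(X, U) _ a)) = _
  rw [AlgEquiv.commutes]
  exact (congrArg (fun m => m.hom a) (g.fromNormalization_app hU)).symm

theorem length_stalk_cokernel [IsLocallyNoetherian X] [IsFinite (Curv2.normalizationι X)]
    [Mono (ClSub.unitToPush (Curv2.normalizationι X))] (x : X) :
    Module.length (X.presheaf.stalk x)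
      ((cokernel (ClSub.unitToPush (Curv2.normalizationι X))).presheaf.stalk x) =
      Curv2.deltaInv (X.presheaf.stalk x) := by
  let π := Curv2.normalizationι X
  obtain ⟨W, hW, hxW, -⟩ := exists_isAffineOpen_mem_and_subset (x := x) (U := (⊤ : X.Opens)) trivial
  haveI : Nonempty W := ⟨⟨x, hxW⟩⟩
  haveI : IsLocallyNoetherian (Curv2.normalization X) := LocallyOfFiniteType.isLocallyNoetherian π
  letI : Algebra Γ(X, W) Γ(Curv2.normalization X, π ⁻¹ᵁ W) := (π.app W).hom.toAlgebra
  have hP : Coh.IsCoh ((Scheme.Modules.pushforward π).obj (Coh.structureModule (Curv2.normalization X))) :=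
    QC.isCoh_pushforward_of_isFinite (hM := Groth.Agent.QC.isQCoh_unit (Curv2.normalization X)) π
      (RefStalk.isCoh_structureModule (X := Curv2.normalization X)).2
  have hQ : Coh.IsCoh (DeltaNorm.Q π) := QC.isCoh_cokernel (QC.isQCoh_unit X) hP _
  haveI : (DeltaNorm.Q π).IsQuasicoherent := hQ.1
  let πQ := cokernel.π (ClSub.unitToPush π)
  let f : Γ(Curv2.normalization X, π ⁻¹ᵁ W) →ₗ[Γ(X, W)] Γ(DeltaNorm.Q π, W) :=
    { toFun := fun b => πQ.app W b
      map_add' := fun b c => map_add (πQ.app W).hom b c
      map_smul' := fun r b => TMul.app_smul πQ r b }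
  have hfs : Function.Surjective f := QC.app_surjective_of_epi hW hP.1 hQ.1 πQ
  have hS : (ShortComplex.mk (ClSub.unitToPush π) πQ (cokernel.condition _)).ShortExact :=
    { exact := ShortComplex.exact_cokernel _, mono_f := inferInstance, epi_g := inferInstance }
  have hfk : LinearMap.ker f = LinearMap.range (Algebra.linearMap Γ(X, W) Γ(Curv2.normalization X, π ⁻¹ᵁ W)) := by
    refine le_antisymm (fun b hb => ?_) ?_
    · obtain ⟨a, ha⟩ := Groth.Agent.SiteCoh.sections_exact (CohFinite.shortExact_toAb hS) W b hb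
      exact ⟨a, ha⟩
    · rintro _ ⟨a, rfl⟩
      exact congrArg (fun ψ : Coh.structureModule X ⟶ DeltaNorm.Q π => ψ.app W a)
        (cokernel.condition (ClSub.unitToPush π))
  obtain ⟨e⟩ := exists_algEquiv X hW
  letI := Module.compHom ((DeltaNorm.Q π).presheaf.stalk x) (X.presheaf.germ W x hxW).hom
  letI := TopCat.Presheaf.algebra_section_stalk X.presheaf (⟨x, hxW⟩ : W)
  haveI := hW.isLocalization_stalk ⟨x, hxW⟩
  haveI : IsScalarTower Γ(X, W) (X.presheaf.stalk x) ((DeltaNorm.Q π).presheaf.stalk x) :=
    ⟨fun a c m => mul_smul ((X.presheaf.germ W x hxW).hom a) c m⟩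
  haveI := functionField_isFractionRing_of_isAffineOpen X W hW
  haveI : IsScalarTower Γ(X, W) (X.presheaf.stalk x) X.functionField := functionField_isScalarTower X W ⟨x, hxW⟩
  obtain ⟨g, hg, -⟩ := Groth.Agent.RefStalk.exists_loc hW hQ.1 hxW
  haveI := hg
  exact length_eq_deltaInv (hW.primeIdealOf ⟨x, hxW⟩).asIdeal e f hfs hfk g

theorem result' (hN : ∀ U : X.affineOpens, CAlg.IsNagata Γ(X, (U : X.Opens))) (hdim : topologicalKrullDim X = 1) :
    IsFinite (Curv2.normalizationι X) ∧
      (∃ U : X.Opens, Dense ((U : Set X)) ∧ IsIso (Curv2.normalizationι X ∣_ U)) ∧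
      Mono (ClSub.unitToPush (Curv2.normalizationι X)) ∧
      (∀ x : X, IsClosed ({x} : Set X) → Module.length (X.presheaf.stalk x)
        ((cokernel (ClSub.unitToPush (Curv2.normalizationι X))).presheaf.stalk x) =
          Curv2.deltaInv (X.presheaf.stalk x)) ∧
      (∀ x : X, ¬ IsClosed ({x} : Set X) →
        Subsingleton ((cokernel (ClSub.unitToPush (Curv2.normalizationι X))).presheaf.stalk x)) := by
  haveI : IsLocallyNoetherian X := ⟨fun U => (hN U).1⟩
  haveI := isFinite_normalizationι X hN
  obtain ⟨D, hD, hiso⟩ := Groth.Agent.BMCoh.exists_isIso_normalizationι X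
  have hdense : Dense (D : Set X) := D.2.dense hD
  haveI : Mono (ClSub.unitToPush (Curv2.normalizationι X)) := DeltaNorm.mono_unitToPush _ D hdense hiso
  refine ⟨inferInstance, ⟨D, hdense, hiso⟩, inferInstance, fun x _ => length_stalk_cokernel X x, fun x hx => ?_⟩
  have hgen : x = genericPoint X := by
    by_contra hne
    exact hx ((Groth.Agent.GenComp.topologicalKrullDim_le_one_iff X).1 hdim.le x hne)
  have h0 : Module.length (X.presheaf.stalk x)
      ((cokernel (ClSub.unitToPush (Curv2.normalizationι X))).presheaf.stalk x) = 0 := by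
    rw [length_stalk_cokernel X x, Curv2.deltaInv, Module.length_eq_zero_iff]
    subst hgen
    letI : Field (X.presheaf.stalk (genericPoint X)) := inferInstanceAs (Field X.functionField)
    refine Submodule.Quotient.subsingleton_iff.2 (eq_top_iff.2 fun z _ => ?_)
    obtain ⟨a, ha⟩ := IsIntegrallyClosed.algebraMap_eq_of_integral z.2
    exact ⟨a, Subtype.ext ha⟩
  exact Module.length_eq_zero_iff.1 h0

end Groth.Agent.NormCoker
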