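import Mathlib
import Groth.Prelude.Def_Curv2

/-!
The `δ`-invariant of a localization, read on the cokernel of a domain in its integral closure.
-/

set_option autoImplicit false

universe u

noncomputable section

namespace Groth.Agent.NormCoker

/-- The length of a localization of `Ā/A` is the `δ`-invariant of the localized ring. -/
theorem length_eq_deltaInv {A O K : Type u} [CommRing A] [IsDomain A] [CommRing O] [Field K] [Algebra A O]
    [Algebra A K] [Algebra O K] [IsScalarTower A O K] [IsFractionRing A K] [IsFractionRing O K]
    (p : Ideal A) [p.IsPrime] [IsLocalization.AtPrime O p] {B Q M : Type u} [CommRing B] [Algebra A B]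
    (e : integralClosure A K ≃ₐ[A] B) [AddCommGroup Q] [Module A Q] [AddCommGroup M] [Module A M] [Module O M]
    [IsScalarTower A O M] (f : B →ₗ[A] Q) (hf : Function.Surjective f)
    (hk : LinearMap.ker f = LinearMap.range (Algebra.linearMap A B)) (g : Q →ₗ[A] M)
    [IsLocalizedModule p.primeCompl g] : Module.length O M = Curv2.deltaInv O := by
  haveI : IsLocalizedModule p.primeCompl (Algebra.linearMap A O) :=
    (isLocalizedModule_iff_isLocalization' p.primeCompl O).2 inferInstance
  let ι : integralClosure A K →ₗ[A] integralClosure O K :=
    { toFun := fun z => ⟨z.1, z.2.tower_top⟩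
      map_add' := fun _ _ => rfl
      map_smul' := fun _ _ => rfl }
  haveI : IsLocalizedModule p.primeCompl ι := by
    refine ⟨fun s => ?_, fun z => ?_, fun {z w} h => ⟨1, ?_⟩⟩
    · rw [Module.End.isUnit_iff]
      have hu : IsUnit (algebraMap A O s) := IsLocalization.map_units O s
      have key : Function.Bijective fun z : integralClosure O K => algebraMap A O s • z := hu.smul_bijective
      convert key using 1
      funext z
      exact (algebraMap_smul O (s : A) z).symm
    · obtain ⟨s, hs⟩ := IsIntegral.exists_multiple_integral_of_isLocalization p.primeCompl (z : K) z.2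
      exact ⟨(⟨(s : A) • (z : K), hs⟩, s), Subtype.ext rfl⟩
    · rw [one_smul, one_smul]
      exact Subtype.ext (congrArg (fun t : integralClosure O K => (t : K)) h :)
  let f' : integralClosure A K →ₗ[A] Q := f.comp e.toLinearMap
  have hf' : Function.Surjective f' := hf.comp e.surjective
  have hex : Function.Exact (Algebra.linearMap A (integralClosure A K)) f' := fun z => by
    show f (e z) = 0 ↔ _
    rw [← LinearMap.mem_ker, hk]
    exact ⟨fun ⟨a, ha⟩ => ⟨a, e.injective ((e.commutes a).trans ha)⟩,
      fun ⟨a, ha⟩ => ⟨a, by rw [← ha]; exact (e.commutes a).symm⟩⟩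
  have hex' := IsLocalizedModule.map_exact p.primeCompl (Algebra.linearMap A O) ι g _ _ hex
  have heq : IsLocalizedModule.map p.primeCompl (Algebra.linearMap A O) ι (Algebra.linearMap A (integralClosure A K)) =
      (Algebra.linearMap O (integralClosure O K)).restrictScalars A :=
    IsLocalizedModule.linearMap_ext p.primeCompl (Algebra.linearMap A O) ι <| LinearMap.ext fun a => by
      rw [LinearMap.comp_apply, LinearMap.comp_apply, IsLocalizedModule.map_apply]
      exact Subtype.ext (IsScalarTower.algebraMap_apply A O K a)
  rw [heq] at hex'
  let h : integralClosure O K →ₗ[O] M :=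
    (IsLocalizedModule.map p.primeCompl ι g f').extendScalarsOfIsLocalization p.primeCompl O
  have hh : Function.Surjective h := IsLocalizedModule.map_surjective p.primeCompl ι g f' hf'
  have hkh : LinearMap.ker h = LinearMap.range (Algebra.linearMap O (integralClosure O K)) :=
    Submodule.ext fun z => hex' z
  let E : integralClosure O (FractionRing O) ≃ₐ[O] integralClosure O K :=
    (FractionRing.algEquiv O K).mapIntegralClosure
  rw [← (h.quotKerEquivOfSurjective hh).length_eq, Curv2.deltaInv]
  refine ((Submodule.Quotient.equiv _ _ E.toLinearEquiv ?_).length_eq).symm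
  rw [hkh, ← LinearMap.range_comp]
  exact congrArg LinearMap.range (LinearMap.ext fun r => E.commutes r)

end Groth.Agent.NormCoker
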